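import Mathlib.LinearAlgebra.CliffordAlgebra.Conjugation
import Mathlib.LinearAlgebra.CliffordAlgebra.Contraction
import Mathlib.GroupTheory.SpecificGroups.Alternating
import Mathlib.Analysis.Real.Sqrt
import Mathlib.GroupTheory.QuotientGroup.Basic
import Mathlib.GroupTheory.Abelianization.Defs

/-!
# The spin double cover of the alternating groups

The lifts of even permutations inside the Clifford algebra of the standard quadratic form on `ℝ^n`.
-/

set_option autoImplicit false

noncomputable section

namespace CfsgLib.Spin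

open CliffordAlgebra
open scoped commutatorElement

variable {n : ℕ}

/-- The standard quadratic form. -/
abbrev stdForm (n : ℕ) : QuadraticForm ℝ (Fin n → ℝ) :=
  QuadraticMap.weightedSumSquares ℝ (fun _ : Fin n => (1 : ℝ))

/-- Its Clifford algebra. -/
abbrev Cl (n : ℕ) := CliffordAlgebra (stdForm n)

/-- The orthonormal generators. -/
def gen (i : Fin n) : Cl n := ι (stdForm n) (Pi.single i 1)

theorem stdForm_single (i : Fin n) : stdForm n (Pi.single i 1) = 1 := by
  rw [QuadraticMap.weightedSumSquares_apply, Finset.sum_eq_single i]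
  · simp
  · intro j _ hj
    simp [hj]
  · exact fun h => absurd (Finset.mem_univ i) h

theorem gen_sq (i : Fin n) : gen i * gen i = 1 := by
  rw [gen, ι_sq_scalar, stdForm_single, map_one]

theorem isOrtho_single {i j : Fin n} (h : i ≠ j) :
    (stdForm n).IsOrtho (Pi.single i 1) (Pi.single j 1) := by
  rw [QuadraticMap.isOrtho_def]
  simp only [QuadraticMap.weightedSumSquares_apply, ← Finset.sum_add_distrib]
  refine Finset.sum_congr rfl fun k _ => ?_
  by_cases h1 : k = i
  · subst h1
    simp [h]
  · simp [h1]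

theorem gen_anti {i j : Fin n} (h : i ≠ j) : gen i * gen j = -(gen j * gen i) :=
  ι_mul_ι_comm_of_isOrtho (isOrtho_single h)

instance nontrivial_cl (n : ℕ) : Nontrivial (Cl n) :=
  haveI : Invertible (2 : ℝ) := invertibleOfNonzero two_ne_zero
  (equivExterior (stdForm n)).symm.injective.nontrivial

theorem two_ne_zero_cl : (2 : Cl n) ≠ 0 := by
  intro h
  exact two_ne_zero (α := ℝ) ((algebraMap ℝ (Cl n)).injective (by rw [map_ofNat, h, map_zero]))

theorem one_ne_neg_one : (1 : Cl n) ≠ -1 := fun h =>
  two_ne_zero_cl (n := n) (by rw [← one_add_one_eq_two]; nth_rw 1 [h]; exact neg_add_cancel 1)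

theorem gen_injective : Function.Injective (gen (n := n)) := by
  intro i j h
  by_contra hne
  have h1 := gen_anti hne
  rw [h, gen_sq] at h1
  exact one_ne_neg_one h1

/-- Products of generators. -/
def word (l : List (Fin n)) : Cl n := (l.map gen).prod

theorem word_nil : word ([] : List (Fin n)) = 1 := rfl

theorem word_cons (a : Fin n) (l : List (Fin n)) : word (a :: l) = gen a * word l := by
  simp [word]

theorem word_append (l l' : List (Fin n)) : word (l ++ l') = word l * word l' := by
  simp [word]

theorem reverse_word (l : List (Fin n)) : reverse (word l) = word l.reverse := by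
  have h := reverse_prod_map_ι (Q := stdForm n) (l.map fun i => (Pi.single i 1 : Fin n → ℝ))
  simp only [List.map_map, ← List.map_reverse] at h
  exact h

theorem gen_mul_word (i : Fin n) (l : List (Fin n)) :
    gen i * word l = (-1 : ℝ) ^ (l.length + l.count i) • (word l * gen i) := by
  induction l with
  | nil => simp [word_nil]
  | cons a t ih =>
    by_cases h : a = i
    · subst h
      have hp : (-1 : ℝ) ^ ((a :: t).length + (a :: t).count a) =
          (-1 : ℝ) ^ (t.length + t.count a) := by
        rw [List.length_cons, List.count_cons_self,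
          show t.length + 1 + (t.count a + 1) = t.length + t.count a + 2 by ring, pow_add,
          neg_one_sq, mul_one]
      rw [hp, word_cons, mul_assoc (gen a) (word t), ← mul_smul_comm, ← ih]
    · rw [List.length_cons, List.count_cons_of_ne h, word_cons, ← mul_assoc, gen_anti (Ne.symm h),
        neg_mul, mul_assoc, ih, mul_smul_comm, mul_assoc, ← neg_smul,
        show t.length + 1 + t.count i = t.length + t.count i + 1 by ring, pow_succ, mul_neg_one]

/-- The span of the words of given parity. -/
def W (n k : ℕ) : Submodule ℝ (Cl n) :=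
  Submodule.span ℝ (word '' {l : List (Fin n) | l.length % 2 = k % 2})

theorem word_mem (l : List (Fin n)) : word l ∈ W n l.length :=
  Submodule.subset_span ⟨l, rfl, rfl⟩

theorem W_congr {k m : ℕ} (h : k % 2 = m % 2) : W n k = W n m := by
  simp only [W, h]

theorem one_mem_W : (1 : Cl n) ∈ W n 0 := word_mem []

theorem mul_mem_W {k m : ℕ} {x y : Cl n} (hx : x ∈ W n k) (hy : y ∈ W n m) :
    x * y ∈ W n (k + m) := by
  induction hx using Submodule.span_induction with
  | mem x hx =>
    induction hy using Submodule.span_induction with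
    | mem y hy =>
      obtain ⟨l, hl, rfl⟩ := hx
      obtain ⟨l', hl', rfl⟩ := hy
      refine Submodule.subset_span ⟨l ++ l', ?_, word_append l l'⟩
      simp only [Set.mem_ofPred_eq, List.length_append] at *
      omega
    | zero => simp
    | add a b _ _ ha hb => rw [mul_add]; exact Submodule.add_mem _ ha hb
    | smul r a _ ha => rw [mul_smul_comm]; exact Submodule.smul_mem _ r ha
  | zero => simp
  | add a b _ _ ha hb => rw [add_mul]; exact Submodule.add_mem _ ha hb
  | smul r a _ ha => rw [smul_mul_assoc]; exact Submodule.smul_mem _ r ha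

theorem reverse_mem_W {k : ℕ} {x : Cl n} (hx : x ∈ W n k) : reverse x ∈ W n k := by
  induction hx using Submodule.span_induction with
  | mem x hx =>
    obtain ⟨l, hl, rfl⟩ := hx
    exact Submodule.subset_span ⟨l.reverse, by simpa using hl, (reverse_word l).symm⟩
  | zero => simp
  | add a b _ _ ha hb => rw [map_add]; exact Submodule.add_mem _ ha hb
  | smul r a _ ha => rw [map_smul]; exact Submodule.smul_mem _ r ha

theorem word_scalar : ∀ (m : ℕ) (l : List (Fin n)), l.length = m → (∀ i, Even (l.count i)) →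
    word l ∈ LinearMap.range (Algebra.linearMap ℝ (Cl n)) := by
  intro m
  induction m using Nat.strong_induction_on with
  | _ m ih =>
    intro l hlm hev
    match l, hlm with
    | [], _ => exact ⟨1, by simp [word_nil]⟩
    | a :: t, hlm =>
      have hodd : ¬ Even (t.count a) := by
        have := hev a
        rw [List.count_cons_self] at this
        exact fun h => Nat.not_even_one (by simpa [Nat.even_add, h] using this)
      have ha : a ∈ t := by
        by_contra ha
        exact hodd (by simp [List.count_eq_zero.2 ha])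
      obtain ⟨t₁, t₂, rfl⟩ := List.append_of_mem ha
      have hev' : ∀ i, Even ((t₁ ++ t₂).count i) := fun i => by
        have := hev i
        simp only [List.count_cons, List.count_append] at this ⊢
        split_ifs at this with h
        · rw [show t₁.count i + (t₂.count i + 1) + 1 = t₁.count i + t₂.count i + 2 by ring,
            Nat.even_add] at this
          exact this.2 even_two
        · simpa using this
      obtain ⟨r, hr⟩ := ih _ (by simp at hlm ⊢; omega) (t₁ ++ t₂) rfl hev'
      refine ⟨(-1 : ℝ) ^ (t₁.length + t₁.count a) * r, ?_⟩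
      rw [word_cons, word_append, word_cons, ← mul_assoc, gen_mul_word, smul_mul_assoc, mul_assoc,
        ← mul_assoc (gen a), gen_sq, one_mul, ← word_append, ← hr]
      simp [Algebra.smul_def]

/-- Averaging over conjugation by a generator. -/
def avgGen (i : Fin n) : Cl n →ₗ[ℝ] Cl n :=
  (2⁻¹ : ℝ) • (LinearMap.id + (LinearMap.mulLeft ℝ (gen i)).comp (LinearMap.mulRight ℝ (gen i)))

theorem avgGen_apply (i : Fin n) (x : Cl n) :
    avgGen i x = (2⁻¹ : ℝ) • (x + gen i * (x * gen i)) := rfl

theorem avgGen_word (i : Fin n) {l : List (Fin n)} (hl : l.length % 2 = 0) :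
    avgGen i (word l) = if Even (l.count i) then word l else 0 := by
  have h : gen i * (word l * gen i) = (-1 : ℝ) ^ (l.count i) • word l := by
    rw [← mul_assoc, gen_mul_word, smul_mul_assoc, mul_assoc, gen_sq, mul_one, pow_add,
      (Nat.even_iff.2 hl).neg_one_pow, one_mul]
  rw [avgGen_apply, h]
  split_ifs with he
  · rw [he.neg_one_pow, one_smul, ← two_smul ℝ (word l), smul_smul, inv_mul_cancel₀ two_ne_zero,
      one_smul]
  · rw [(Nat.not_even_iff_odd.1 he).neg_one_pow, neg_smul, one_smul, add_neg_cancel, smul_zero]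

/-- Even elements commuting with all generators are scalars. -/
theorem scalar_of_commute {u : Cl n} (hu : u ∈ W n 0) (hc : ∀ i, u * gen i = gen i * u) :
    ∃ c : ℝ, algebraMap ℝ (Cl n) c = u := by
  let Φ : List (Fin n) → Cl n → Cl n := fun L x => L.foldr (fun i y => avgGen i y) x
  have hfix : ∀ L : List (Fin n), Φ L u = u := by
    intro L
    induction L with
    | nil => rfl
    | cons a t ih =>
      show avgGen a (Φ t u) = u
      rw [ih, avgGen_apply, hc a, ← mul_assoc, gen_sq, one_mul, ← two_smul ℝ u, smul_smul,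
        inv_mul_cancel₀ two_ne_zero, one_smul]
  have hword : ∀ (L : List (Fin n)) (l : List (Fin n)), l.length % 2 = 0 →
      Φ L (word l) = if ∀ i ∈ L, Even (l.count i) then word l else 0 := by
    intro L l hl
    induction L with
    | nil => simp [Φ]
    | cons a t ih =>
      show avgGen a (Φ t (word l)) = _
      rw [ih]
      by_cases ht : ∀ i ∈ t, Even (l.count i)
      · rw [if_pos ht, avgGen_word a hl]
        by_cases ha : Even (l.count a)
        · rw [if_pos ha, if_pos (by simpa [ha] using ht)]
        · rw [if_neg ha, if_neg (fun h => ha (h a List.mem_cons_self))]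
      · rw [if_neg ht, map_zero, if_neg (fun h => ht fun i hi => h i (List.mem_cons_of_mem a hi))]
  let L := (Finset.univ : Finset (Fin n)).toList
  have hlin : ∀ (L : List (Fin n)) (r : ℝ) (x y : Cl n),
      Φ L (r • x + y) = r • Φ L x + Φ L y := by
    intro L r x y
    induction L with
    | nil => rfl
    | cons a t ih =>
      show avgGen a (Φ t (r • x + y)) = r • avgGen a (Φ t x) + avgGen a (Φ t y)
      rw [ih, map_add, map_smul]
  have hzero : Φ L 0 = 0 := by
    have := hlin L 1 0 0
    simpa using this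
  have hmem : Φ L u ∈ LinearMap.range (Algebra.linearMap ℝ (Cl n)) := by
    clear hfix hc
    induction hu using Submodule.span_induction with
    | mem x hx =>
      obtain ⟨l, hl, rfl⟩ := hx
      rw [hword L l (by simpa using hl)]
      split_ifs with h
      · exact word_scalar _ l rfl fun i => h i (by simp [L])
      · exact Submodule.zero_mem _
    | zero => rw [hzero]; exact Submodule.zero_mem _
    | add a b _ _ ha hb =>
      have := hlin L 1 a b
      rw [one_smul, one_smul] at this
      rw [this]
      exact Submodule.add_mem _ ha hb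
    | smul r a _ ha =>
      have := hlin L r a 0
      rw [add_zero, hzero, add_zero] at this
      rw [this]
      exact Submodule.smul_mem _ r ha
  rw [hfix L] at hmem
  exact hmem

/-- The unit vector `(e_a - e_b) / √2`. -/
def tr (a b : Fin n) : Cl n := (Real.sqrt 2)⁻¹ • (gen a - gen b)

theorem tr_mem_W (a b : Fin n) : tr a b ∈ W n 1 := by
  have h : ∀ c : Fin n, gen c ∈ W n 1 := fun c => by simpa [word] using word_mem [c]
  exact Submodule.smul_mem _ _ (Submodule.sub_mem _ (h a) (h b))

theorem reverse_tr (a b : Fin n) : reverse (tr a b) = tr a b := by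
  simp [tr, gen]

theorem tr_sq {a b : Fin n} (h : a ≠ b) : tr a b * tr a b = 1 := by
  rw [tr, smul_mul_smul_comm, sub_mul, mul_sub, mul_sub, gen_sq, gen_sq, gen_anti h]
  have : (1 : Cl n) - -(gen b * gen a) - (gen b * gen a - 1) = (2 : ℝ) • (1 : Cl n) := by
    rw [two_smul]
    abel
  rw [this, smul_smul, ← mul_inv, Real.mul_self_sqrt (by norm_num), inv_mul_cancel₀ two_ne_zero,
    one_smul]

theorem tr_mul_gen {a b : Fin n} (h : a ≠ b) (i : Fin n) :
    tr a b * gen i = -(gen (Equiv.swap a b i) * tr a b) := by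
  rw [tr, smul_mul_assoc, mul_smul_comm, ← smul_neg]
  congr 1
  by_cases hia : i = a
  · subst hia
    rw [Equiv.swap_apply_left, sub_mul, mul_sub, gen_sq, gen_sq]
    abel
  by_cases hib : i = b
  · subst hib
    rw [Equiv.swap_apply_right, sub_mul, mul_sub, gen_sq, gen_sq]
    abel
  rw [Equiv.swap_apply_of_ne_of_ne hia hib, sub_mul, mul_sub, gen_anti (Ne.symm hia),
    gen_anti (Ne.symm hib)]
  abel

/-- Every permutation lifts. -/
theorem exists_lift (σ : Equiv.Perm (Fin n)) : ∃ (u : (Cl n)ˣ) (k : ℕ),
    (u : Cl n) ∈ W n k ∧ reverse (u : Cl n) * u = 1 ∧ Equiv.Perm.sign σ = (-1) ^ k ∧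
      ∀ i, (u : Cl n) * gen i = (-1 : ℝ) ^ k • (gen (σ i) * u) := by
  induction σ using Equiv.Perm.swap_induction_on with
  | one => exact ⟨1, 0, one_mem_W, by simp, by simp, fun i => by simp⟩
  | swap_mul f x y hxy ih =>
    obtain ⟨u, k, hW, hrev, hsgn, hact⟩ := ih
    let t : (Cl n)ˣ := ⟨tr x y, tr x y, tr_sq hxy, tr_sq hxy⟩
    refine ⟨t * u, 1 + k, mul_mem_W (tr_mem_W x y) hW, ?_, ?_, fun i => ?_⟩
    · show reverse (tr x y * (u : Cl n)) * (tr x y * (u : Cl n)) = 1
      rw [reverse.map_mul, reverse_tr, mul_assoc, ← mul_assoc (tr x y), tr_sq hxy, one_mul, hrev]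
    · rw [Equiv.Perm.sign_mul, Equiv.Perm.sign_swap hxy, hsgn, pow_add, pow_one]
    · show tr x y * (u : Cl n) * gen i = (-1 : ℝ) ^ (1 + k) • (gen ((Equiv.swap x y * f) i) *
        (tr x y * (u : Cl n)))
      rw [mul_assoc, hact i, mul_smul_comm, ← mul_assoc, tr_mul_gen hxy, pow_add, pow_one,
        neg_one_mul, neg_smul, ← smul_neg, neg_mul, mul_assoc]
      rfl

/-- The spin double cover of `A_n`. -/
def spinAlt (n : ℕ) : Subgroup (Cl n)ˣ where
  carrier := {u | (u : Cl n) ∈ W n 0 ∧ reverse (u : Cl n) * u = 1 ∧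
    ∃ σ ∈ alternatingGroup (Fin n), ∀ i, (u : Cl n) * gen i = gen (σ i) * u}
  one_mem' := ⟨one_mem_W, by simp, 1, one_mem _, fun i => by simp⟩
  mul_mem' := by
    rintro u v ⟨hu, hur, σ, hσ, hσu⟩ ⟨hv, hvr, τ, hτ, hτv⟩
    refine ⟨mul_mem_W (k := 0) (m := 0) hu hv, ?_, σ * τ, mul_mem hσ hτ, fun i => ?_⟩
    · rw [Units.val_mul, reverse.map_mul, mul_assoc, ← mul_assoc (reverse (u : Cl n)), hur,
        one_mul, hvr]
    · rw [Units.val_mul, mul_assoc, hτv, ← mul_assoc, hσu, mul_assoc]
      rfl
  inv_mem' := by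
    rintro u ⟨hu, hur, σ, hσ, hσu⟩
    have hinv : ((u⁻¹ : (Cl n)ˣ) : Cl n) = reverse (u : Cl n) := Units.inv_eq_of_mul_eq_one_left hur
    refine ⟨hinv ▸ reverse_mem_W hu, ?_, σ⁻¹, inv_mem hσ, fun i => ?_⟩
    · rw [hinv, reverse_reverse, ← hinv]
      exact u.mul_inv
    · rw [Units.inv_mul_eq_iff_eq_mul, ← mul_assoc, hσu, Units.mul_inv_cancel_right]
      simp

/-- The permutation of the generators induced by a spin element. -/
def permOf (u : spinAlt n) : Equiv.Perm (Fin n) := u.2.2.2.choose

theorem permOf_spec (u : spinAlt n) (i : Fin n) :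
    ((u : (Cl n)ˣ) : Cl n) * gen i = gen (permOf u i) * ((u : (Cl n)ˣ) : Cl n) :=
  u.2.2.2.choose_spec.2 i

theorem permOf_eq (u : spinAlt n) {σ : Equiv.Perm (Fin n)}
    (h : ∀ i, ((u : (Cl n)ˣ) : Cl n) * gen i = gen (σ i) * ((u : (Cl n)ˣ) : Cl n)) :
    permOf u = σ :=
  Equiv.ext fun i => gen_injective ((Units.mul_left_inj _).1 ((permOf_spec u i).symm.trans (h i)))

/-- The projection to the alternating group. -/
def toAlt (n : ℕ) : spinAlt n →* alternatingGroup (Fin n) :=
  MonoidHom.mk' (fun u => ⟨permOf u, u.2.2.2.choose_spec.1⟩) fun a b =>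
    Subtype.ext (permOf_eq (a * b) fun i => by
      rw [Subgroup.coe_mul, Units.val_mul, mul_assoc, permOf_spec b, ← mul_assoc, permOf_spec a,
        mul_assoc]
      rfl)

theorem toAlt_surjective (n : ℕ) : Function.Surjective (toAlt n) := by
  rintro ⟨σ, hσ⟩
  obtain ⟨u, k, hW, hrev, hsgn, hact⟩ := exists_lift σ
  have hk : Even k := by
    rw [Equiv.Perm.mem_alternatingGroup.1 hσ] at hsgn
    by_contra h
    rw [(Nat.not_even_iff_odd.1 h).neg_one_pow] at hsgn
    exact absurd hsgn (by decide)
  have hW0 : (u : Cl n) ∈ W n 0 := by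
    rw [W_congr (k := 0) (m := k) (by rw [Nat.even_iff.1 hk])]
    exact hW
  have hact' : ∀ i, (u : Cl n) * gen i = gen (σ i) * u := fun i => by
    rw [hact i, hk.neg_one_pow, one_smul]
  exact ⟨⟨u, hW0, hrev, σ, hσ, hact'⟩, Subtype.ext (permOf_eq _ hact')⟩

/-- The central involution. -/
def negOne (n : ℕ) : spinAlt n :=
  ⟨-1, by
    refine ⟨?_, by simp, 1, one_mem _, fun i => by simp⟩
    simpa using Submodule.neg_mem _ (one_mem_W (n := n))⟩

theorem negOne_mem_center (n : ℕ) : negOne n ∈ Subgroup.center (spinAlt n) :=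
  Subgroup.mem_center_iff.2 fun g => Subtype.ext (Units.ext (by simp [negOne]))

theorem negOne_ne_one (n : ℕ) : negOne n ≠ 1 := fun h =>
  one_ne_neg_one (n := n) (by
    have := congrArg (fun u : spinAlt n => ((u : (Cl n)ˣ) : Cl n)) h
    simpa [negOne] using this.symm)

theorem orderOf_negOne (n : ℕ) : orderOf (negOne n) = 2 :=
  orderOf_eq_prime (Subtype.ext (Units.ext (by simp [negOne]))) (negOne_ne_one n)

theorem ker_toAlt (n : ℕ) : (toAlt n).ker = Subgroup.zpowers (negOne n) := by
  refine le_antisymm (fun u hu => ?_) (Subgroup.zpowers_le.2 ?_)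
  · have h1 : permOf u = 1 := congrArg Subtype.val (MonoidHom.mem_ker.1 hu)
    obtain ⟨c, hc⟩ := scalar_of_commute u.2.1 fun i => by
      have := permOf_spec u i
      rwa [h1] at this
    have hcc : c * c = 1 := by
      have := u.2.2.1
      rw [← hc, reverse.commutes, ← map_mul] at this
      exact (algebraMap ℝ (Cl n)).injective (by rw [this, map_one])
    rcases mul_self_eq_one_iff.1 hcc with rfl | rfl
    · rw [show u = 1 from Subtype.ext (Units.ext (by rw [← hc]; simp))]
      exact one_mem _
    · rw [show u = negOne n from Subtype.ext (Units.ext (by rw [← hc]; simp [negOne]))]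
      exact Subgroup.mem_zpowers _
  · exact MonoidHom.mem_ker.2 (Subtype.ext (permOf_eq _ fun i => by simp [negOne]))

theorem finite_spinAlt (n : ℕ) : Finite (spinAlt n) := by
  have : Finite (toAlt n).ker := by
    rw [ker_toAlt]
    refine Nat.finite_of_card_ne_zero ?_
    rw [Nat.card_zpowers, orderOf_negOne]
    exact two_ne_zero
  have : Finite (spinAlt n ⧸ (toAlt n).ker) :=
    Finite.of_equiv _ (QuotientGroup.quotientKerEquivOfSurjective _ (toAlt_surjective n)).symm.toEquiv
  exact Finite.of_equiv _ (Subgroup.groupEquivQuotientProdSubgroup (s := (toAlt n).ker)).symm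

theorem negOne_mem_commutator (n : ℕ) (hn : 4 ≤ n) : negOne n ∈ commutator (spinAlt n) := by
  let f : Fin 4 → Fin n := Fin.castLE hn
  have hf : ∀ i j : Fin 4, i ≠ j → f i ≠ f j := fun i j h he => h (Fin.castLE_injective hn he)
  set a := f 0; set b := f 1; set c := f 2; set d := f 3
  have hab : a ≠ b := hf 0 1 (by decide)
  have hcd : c ≠ d := hf 2 3 (by decide)
  have hac : a ≠ c := hf 0 2 (by decide)
  have hbd : b ≠ d := hf 1 3 (by decide)
  have had : a ≠ d := hf 0 3 (by decide)
  have hbc : b ≠ c := hf 1 2 (by decide)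
  let T : ∀ {p q : Fin n}, p ≠ q → (Cl n)ˣ := fun {p q} h => ⟨tr p q, tr p q, tr_sq h, tr_sq h⟩
  have hmem : ∀ {p q r s : Fin n} (h : p ≠ q) (h' : r ≠ s), T h * T h' ∈ spinAlt n := by
    intro p q r s h h'
    have hW2 : tr p q * tr r s ∈ W n 0 := by
      rw [W_congr (n := n) (k := 0) (m := 1 + 1) rfl]
      exact mul_mem_W (tr_mem_W p q) (tr_mem_W r s)
    refine ⟨hW2, ?_,
      Equiv.swap p q * Equiv.swap r s, Equiv.Perm.mul_mem_alternatingGroup_of_isSwap
        ⟨p, q, h, rfl⟩ ⟨r, s, h', rfl⟩, fun i => ?_⟩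
    · show reverse (tr p q * tr r s) * (tr p q * tr r s) = 1
      rw [reverse.map_mul, reverse_tr, reverse_tr, mul_assoc, ← mul_assoc (tr p q), tr_sq h,
        one_mul, tr_sq h']
    · show tr p q * tr r s * gen i = _ * (tr p q * tr r s)
      rw [mul_assoc, tr_mul_gen h', mul_neg, ← mul_assoc, tr_mul_gen h, neg_mul, neg_neg, mul_assoc]
      rfl
  let x : spinAlt n := ⟨_, hmem hab hcd⟩
  let y : spinAlt n := ⟨_, hmem hac hbd⟩
  -- vectors with disjoint supports anticommute
  have hanti : tr c d * tr a b = -(tr a b * tr c d) := by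
    rw [tr, tr, smul_mul_smul_comm, smul_mul_smul_comm, ← smul_neg]
    congr 1
    rw [sub_mul, mul_sub, mul_sub, sub_mul, mul_sub, mul_sub, gen_anti hac.symm, gen_anti had.symm,
      gen_anti hbc.symm, gen_anti hbd.symm]
    abel
  have hconj : ∀ (p q : Fin n) (i : Fin n), (i = p ∨ i = q) → tr a c * tr b d * gen i =
      gen ((Equiv.swap a c * Equiv.swap b d) i) * (tr a c * tr b d) := by
    intro p q i _
    rw [mul_assoc, tr_mul_gen hbd, mul_neg, ← mul_assoc, tr_mul_gen hac, neg_mul, neg_neg, mul_assoc]
    rfl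
  have htr : ∀ p q : Fin n, tr a c * tr b d * tr p q =
      tr ((Equiv.swap a c * Equiv.swap b d) p) ((Equiv.swap a c * Equiv.swap b d) q) *
        (tr a c * tr b d) := by
    intro p q
    show tr a c * tr b d * ((Real.sqrt 2)⁻¹ • (gen p - gen q)) =
      (Real.sqrt 2)⁻¹ • (gen ((Equiv.swap a c * Equiv.swap b d) p) -
        gen ((Equiv.swap a c * Equiv.swap b d) q)) * (tr a c * tr b d)
    rw [mul_smul_comm, smul_mul_assoc, mul_sub, sub_mul, hconj p q p (Or.inl rfl),
      hconj p q q (Or.inr rfl)]
  have hπab : (Equiv.swap a c * Equiv.swap b d) a = c ∧ (Equiv.swap a c * Equiv.swap b d) b = d ∧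
      (Equiv.swap a c * Equiv.swap b d) c = a ∧ (Equiv.swap a c * Equiv.swap b d) d = b := by
    simp only [Equiv.Perm.mul_apply]
    refine ⟨?_, ?_, ?_, ?_⟩
    · rw [Equiv.swap_apply_of_ne_of_ne hab had, Equiv.swap_apply_left]
    · rw [Equiv.swap_apply_left, Equiv.swap_apply_of_ne_of_ne had.symm hcd.symm]
    · rw [Equiv.swap_apply_of_ne_of_ne hbc.symm hcd, Equiv.swap_apply_right]
    · rw [Equiv.swap_apply_right, Equiv.swap_apply_of_ne_of_ne hab.symm hbc]
  have hyx : y * x = negOne n * (x * y) := by
    refine Subtype.ext (Units.ext ?_)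
    show tr a c * tr b d * (tr a b * tr c d) = -1 * (tr a b * tr c d * (tr a c * tr b d))
    rw [← mul_assoc, htr, hπab.1, hπab.2.1, mul_assoc, htr, hπab.2.2.1, hπab.2.2.2, ← mul_assoc,
      hanti, neg_one_mul, neg_mul]
  have : negOne n = ⁅y, x⁆ := by
    rw [commutatorElement_def, hyx]
    group
  rw [this]
  exact Subgroup.commutator_mem_commutator (Subgroup.mem_top y) (Subgroup.mem_top x)

/-- **The double cover of `A_n`.** -/
theorem exists_double_cover (n : ℕ) (hn : 4 ≤ n) :
    ∃ (Γ : Type) (_ : Group Γ) (_ : Finite Γ) (z : Γ), z ∈ Subgroup.center Γ ∧ orderOf z = 2 ∧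
      z ∈ commutator Γ ∧ ∃ _ : (Subgroup.zpowers z).Normal,
        Nonempty (Γ ⧸ Subgroup.zpowers z ≃* alternatingGroup (Fin n)) := by
  have hN : (Subgroup.zpowers (negOne n)).Normal := by
    rw [← ker_toAlt]
    exact MonoidHom.normal_ker _
  exact ⟨spinAlt n, inferInstance, finite_spinAlt n, negOne n, negOne_mem_center n,
    orderOf_negOne n, negOne_mem_commutator n hn, hN,
    ⟨(QuotientGroup.quotientMulEquivOfEq (ker_toAlt n).symm).trans
      (QuotientGroup.quotientKerEquivOfSurjective _ (toAlt_surjective n))⟩⟩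

end CfsgLib.Spin
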